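import Mathlib
import Cfsg.Agent.Lib.Co1Rec.Model
import Cfsg.Agent.Lib.Co1Rec.Cover
import Cfsg.Agent.Lib.Leech.Max
import Cfsg.Agent.Lib.Leech.Co1

/-!
Words in nine involutions of `Co0`; `Co1` satisfies the large extraspecial hypothesis.
-/

set_option autoImplicit false
set_option Elab.async false
set_option maxRecDepth 100000

namespace CfsgLib.Co1Rec

open Cfsg Finset CfsgLib.Leech CfsgLib.Golay CfsgLib.MType CfsgLib.ExtraTwo CfsgLib.LargeExtra
  CfsgLib.OrthE QuadraticMap
open CfsgLib.Mathieu (P24 app code comp idc inM24 img Has pack)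
open CfsgLib.Comput (force force_eq nth)

/-- constants of the letters -/
def lK (i : ℕ) : ℕ := Nat.land (Nat.shiftRight 0x4010842100421080210802108421000042100401084010002108401004210004210842117be108c210845f084210800040100420080000000108421004200004211841f08c210842108c630842108000001084010040000000000000042000046108c2118421084210846108be108000400084010802108021004210800100 (Nat.mul 128 i)) 0xffffffffffffffffffffffffffffffff

/-- the packed matrices of the letters -/
def DD : ℕ := 0x80000000000000000000000000000000000000000000000200000000000000000000000000000000000000400000000000000001000000000000000000000000000000000000000100000000000000000000000000000000000000010000000000000000000000000000000800000000000000000000000000000000000000000000000000020000000000000000000000000100000000000000000000000000000000000080000000000000000000000000000000000000000001000000002000000000000000000000000000000000000000000002000000000000000000000000000000000000000000000100000000000000000000000000800000000000000000000000004000000000000000000000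000000000000000000000000000002000000000000000000000000000000000000080000000000400000000000000000000000000000000000000000000400000000000000000000000000000000000000000000000000000800000000000000000000000000000040000000000000000000000004000000000000000000000000020000000000000000000000000007fffffffffffefffffffffffffe0ffc00007dfffffff7ffffffffffffff800008000007fffffffffffefffffffffffffdf00400000000000000000fffffffffffffdeffc00007ffffffeffc000001ffffffffc0000000007dfffffff8000000000000007ffff800000000080000002000000fffff0000000000007ffffc1ffffffffffff7fe0000000000000000fffffffffff7bffffc00000000000000000003dffffffffffff7fe0000000000000000080000001ffffff000010000000000007ffffffeffbfffffe0000000040000000007ff000000000007bffffc000000000000007fefffffffffff83ffffc000000000000007ffffffffffff00000000000001effc000000007ffffffe0000010000100000000000000000000ffbfffffdffffffffc0000000007e00000007ffffffffffffff7ffff8000007fffffff003fffffdffffffffc0000000007ffffbdffffffffffff80200000000000007ffffbe0000000000007fe00000000000007fff800000020000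01000010000000000007fefffffffffff7c000040000000000000001fffffff7ffffffffffffff7ffff8000007fffffffffffffffffffffffffffff800007ffffffffffffffffffffffffffff0000007ffffffffffffffffffffffffffe0000000000000001000000000000000000000000007ffffffffffffffffffffffff8000000000040000000000000000000000000000000007fffffffffffffffffffffe0000000000007ffffffffffc000000000000000000000007fffffffffffffffffff8000000000000007fffffffff800000000000000000000000000000000000000004000000000000000000000000000000000002000000000000000007fff0000000000000000000000000000000000000400000000000000000000000000007fffffffffffe00000000000000000000007ffffffffffffffffffffc00000000000007ffffffffffffffffff0000000000000000000000000000000000000000004000000007fe00000000000000000000000000000000000000000000010000000000000000000007ffff8000000000000000000000000000007ffffffffffffff800000000000000000007ffffffe000000000000000000000000000000000000000000000000001000000000007e00000000000000000000007ffff8400007e0000000000000000000000800007c00007ffffffff8000fffffffffffffe100000007fff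fffff800100000000000001f0000000000000000001ffffffffbe0004000000000020000000000000000000000800008400007feffbfefffffffffffffff000000000000000000000001ffffffffc1fffc000000000000000000002000000003dfffc000000000000080000000007fdff80000000000000000000001fffc00003ff000000000000000007fff7fffffffff7fdff80000000000000000000001fffbffffc010000000000000000000007fffffffff7fe00800000000000000000000000080010000000000000210000000000000000002000000004200040000000007fffffdfffbffffbff000000000000000000000000008000fffffffffffffdf0000000001003fefffffffffffffff0000000000007fffffdfffc000040100000000000000000000ffc00fffffffffffffff0000000000007fff80000000007fe0080000000000000007ff00400fffffffffffffff0000000000000200000000000000000000007ffff7c00000200000000000fffffffffffffe000400000000000007ffffffffffffff7ffef8000007ffffffff8000000000000007ffef800000020000000000100000000000001fffc00007feffffffffffffffffffdf0040000000007ffffffff7ffffffffffffff8000f8000007feffffffffffffffffffe0ffc0000000007ff0000000000000000001effc0000000007ffffbfefffe000000004000000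0000000000000000000000041f08000000000000000000000000000000420f80000000000000007ffffffffffffffc21080000000000000000000000000000003e1080000000000000000000801fffc0008000000000000000000007e0000000000100000000000002000400007ffffbff0001ffffffffc0000000000000000008020003fff8000000000000000000007ffffffff7ffffffffffffff7fff08000007ffffc00fffdffffffffc000000000000007fff8020004000800000000000000000000000003fefffdffffffffc0000000000000000007fe0004000800000000000000000000000ffffffffffffffffffdeffc00000000001fffffffffff00000000000002000400007fffffffffffffffffffffff802007c00007fffffffffffffffffffffff801ff8400007e00000007fff00000000000000100000007fffffffffffffffffffffff7fe0084000000008000003fffffffffffeffc0000000007fffffffffffffffffffffff7fdff7c00007fff7fffffbfffffffffffeffc0000000007fefffdfffffff7ffffffe00000000000007ffffc00000000040007c000000000000007ffffc0000000003fff840000000000000000000000fffe00001f0000000000000000000000000fffdffffe1000000000000000007ffffbfffffffffc00084000000000000000010001fffffff7ffffffe00000000000007e00000008000ff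fffffffffffff00000007ffffffefffdffffdf0000000000000000000007fffffbffffffffffff004000000000020000000800100000000000000100000007ffffffefffe00002100000000000000000000fffe00000007ffffffe00000000000007ffffbfffffffffbfff7c000000000000007fff8000003ffffffffffff0040000000007ff000200000007ffffffe00000000000000200000007ffefffffffffffffff0000000000000000000000000000000000000800007ffffffffffffffffffffffffffe00000007ffffffffffffffffffffffffffff00000000000000000000000000000000400000000000000000000000000000000080000000000000000000000000000000010000000000000200000000000000000000000000000000000000000000000000000400000000000000000000000000100000000000000000000000000000000000000010000000000000000000000000000000800000000000000000000000000000000000400000000000000000000000000000000000200000000000000000000000000000000000008000000000000007c000000000000000000000000000000000000100000000000000000000000000000007ffff800000000000000000000000000000000000001000000000000000000000000007fffffc00000000000000000000000000007ffffffe0000000000000000000000000007ff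fffffff800000000000000000000000000000000000400000000000000000000000000000000000000000000020000000000007fffffffffffe00000000000000000000000000000000001000000000007fdfffc00007dfffffff80000000000000000010800000020000000800000000000000000108000007fffffffffffefffffffffff7fdfffc00007fffffe00000000001003ffffc0000000000000000000000fffffffffff7fe000400007ffffbffffffff7fdffffff0000000000007fffffffffc20003fffffe00000000000007fffffe00000000000ffc000040000000007ff08000fffffffffff80000000000000007fffffdfffffffffff00400004000000000000004000000007fdffffff0000000000007fffffffffc1fffc0000020000000000000000003ffffffff801ffffff0000000000007ffffffffffff000000000007fe000400007fffffffffbe000400000200000000000007fffffffffbdfffbfffffe00000000000007e00000008000000000000000000f8000007ff07fff0000000000080000000000000007fffffdffffffffffeffbffffc0000000007ffffc00000000801ffffff0000000000007fef80010000000000080000000000000007fef7ffefffffffffff800000000000000001fffffff8000000000000000000f8000007fffffffffffffffffffffffffffff8000000000000000020000000000000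000000000000000001000000000000000000000000007fffffffffffffffffffffffffc000000007ffffffffffffff800000000000000000007fffffffffffffffffffffff000000000007ffffffffffc00000000000000000000000000100000000000000000000000000000007fffffffffffffffffff8000000000000007fffffc0000000000000000000000000000000008000000000000000000000000000007fffffffffffffffc0000000000000000007ffffffffffffffffffffffff80000000007ffffffe000000000000000000000000000000000000000000000000000000010000007fffffffffffffffffffffe0000000000007fffffffff8000000000000000000000000000000000000000000000000000200000007fffffffffffff0000000000000000000007ffffffffffffffffff000000000000000000000000000000000200000000000000000000000000000000000000400000000000007fe000000000000000000000000000000007c00000000000000000000000000000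

/-- the packed matrix of a letter -/
def lD (i : ℕ) : ℕ := Nat.mod (Nat.shiftRight DD (Nat.mul 3360 i)) (Nat.shiftLeft 1 3360)

/-- unpacking a matrix -/
def cL (D : ℕ) : List ℕ := (List.range 24).map fun l => (D >>> (140 * (23 - l))) % 2 ^ 140

/-- the element with given packed data -/
noncomputable def mG (K D : ℕ) : Co0 := matG K (cL D)

/-- the test for packed data -/
noncomputable def mOK (K D : ℕ) : Bool := matOK K (cL D) && packOK (cL D) D

theorem sim_mG {K D : ℕ} (h : mOK K D = true) : Sim (mG K D) (act2 K D) :=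
  (sim_matG (Bool.and_eq_true_iff.1 h).1).act2 (Bool.and_eq_true_iff.1 h).2

/-- the letters -/
noncomputable def gen (i : ℕ) : Co0 := mG (lK (Nat.mod i 9)) (lD (Nat.mod i 9))

/-- the action of the letters -/
noncomputable def gF (i : ℕ) : ℕ → ℕ := act2 (lK (Nat.mod i 9)) (lD (Nat.mod i 9))

theorem gen_ok : ∀ i < 9, mOK (lK i) (lD i) = true ∧
    eqB (fun N => act2 (lK i) (lD i) (act2 (lK i) (lD i) N)) (fun N => N) = true := by decide +kernel

theorem sim_gen (i : ℕ) : Sim (gen i) (gF i) := sim_mG (gen_ok _ (Nat.mod_lt i (by norm_num))).1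

theorem gen_inv (i : ℕ) : (gen i)⁻¹ = gen i := inv_eq_of_mul_eq_one_right
  (((sim_gen i).mul (sim_gen i)).ext Sim.one (gen_ok _ (Nat.mod_lt i (by norm_num))).2)

/-- the value of a word -/
noncomputable def W (w : List ℕ) : Co0 := (w.map gen).prod

/-- the action of a word -/
noncomputable def wF (w : List ℕ) : ℕ → ℕ := List.rec (fun N => N) (fun i _ ih N => gF i (ih N)) w

/-- the action of the inverse of a word -/
noncomputable def wI (w : List ℕ) : ℕ → ℕ := List.rec (fun N => N) (fun i _ ih N => ih (gF i N)) w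

theorem W_nil : W [] = 1 := rfl

theorem W_cons (i : ℕ) (w : List ℕ) : W (i :: w) = gen i * W w := List.prod_cons

theorem W_append (v w : List ℕ) : W (v ++ w) = W v * W w := by simp [W]

theorem sim_W (w : List ℕ) : Sim (W w) (wF w) := by
  induction w with
  | nil => exact Sim.one
  | cons i w ih => rw [W_cons]; exact (sim_gen i).mul ih

theorem sim_WI (w : List ℕ) : Sim (W w)⁻¹ (wI w) := by
  induction w with
  | nil => rw [W_nil, inv_one]; exact Sim.one
  | cons i w ih => rw [W_cons, mul_inv_rev, gen_inv]; exact ih.mul (sim_gen i)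

theorem W_reverse (w : List ℕ) : W w.reverse = (W w)⁻¹ := by
  induction w with
  | nil => simp [W]
  | cons i w ih => rw [List.reverse_cons, W_append, ih, W_cons, W_cons, W_nil, mul_one, mul_inv_rev, gen_inv]

/-- the images of the octad vectors are fixed -/
noncomputable def fxB (h f : ℕ → ℕ) : Bool :=
  allLT 24 fun j => tb 8241104 j || force (f (e8N j)) fun v => Nat.beq (h v) v

theorem conj_of_fxB {u y : Co0} {f h : ℕ → ℕ} (hu : Sim u f) (hy : Sim y h) (e : fxB h f = true)
    (ht : tr y = -64) : u * z0 * u⁻¹ = y := by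
  rw [z0_eq]
  refine conj_eq_of_fix (fun a ha => ?_) (by rw [← z0_eq, tr_z0, ht])
  have h1 := of_allLT e (ix_lt a)
  rw [tb_eq, Bool.or_eq_true, ← mem_ofMask, force_eq] at h1
  have h2 := hu _ _ (by rw [sqNorm_e8]; norm_num) (rep_e8N a)
  exact hy.smul_eq (by rw [sqNorm_smul, sqNorm_e8]; norm_num) h2 h2 (h1.resolve_left ha)

/-- the conjugates of `z0` over `Q0` -/
noncomputable def nι (n : ℕ) : Co0 := negAut * ι n

theorem mk_nι (n : ℕ) : (nι n : Spor.Co1) = ι n :=
  (mk_eq_mk_co1.2 (Or.inr (neg_comm _).symm)).symm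

/-- codes of non-central involutions -/
def valid (n : ℕ) : Bool := Nat.blt n 512 && !Nat.beq (Nat.mod n 256) 0 && !qN n

theorem valid_iff {n : ℕ} : valid n = true ↔ n < 512 ∧ n % 256 ≠ 0 ∧ qN n = false := by
  simp only [valid, Bool.and_eq_true, Nat.blt_eq, Bool.not_eq_true', and_assoc, ← Bool.not_eq_true,
    Nat.beq_eq]
  rfl

/-- the test for `u z0 u⁻¹ = nι n` -/
noncomputable def vt (f : ℕ → ℕ) (n : ℕ) : Bool :=
  valid n && fxB (fun N => Nat.sub 0x1084210842108421084210842108420 (ιF n N)) f

theorem tr_nι {n : ℕ} (h : valid n = true) : tr (nι n) = -64 := by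
  rw [nι, tr_neg', tr_ι (valid_iff.1 h).1 (valid_iff.1 h).2.1]

theorem vt_spec {u : Co0} {f : ℕ → ℕ} {n : ℕ} (hu : Sim u f) (h : vt f n = true) :
    valid n = true ∧ u * z0 * u⁻¹ = nι n :=
  have h1 := Bool.and_eq_true_iff.1 h
  ⟨h1.1, conj_of_fxB hu (sim_neg.mul (sim_ι n)) h1.2 (tr_nι h1.1)⟩

theorem cz_spec {u : Co0} {f : ℕ → ℕ} (hu : Sim u f) (h : fxB (sgF 8241104) f = true) :
    u * z0 = z0 * u := comm_of_conj_eq (conj_of_fxB hu (sim_sN (by decide +kernel)) h tr_z0)

theorem W_comm {w : List ℕ} (h : (allL w fun i => Nat.blt i 8) = true) : W w * z0 = z0 * W w := by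
  have h1 : ∀ i < 8, fxB (sgF 8241104) (gF i) = true := by decide +kernel
  induction w with
  | nil => simp [W]
  | cons i w ih =>
    simp only [allL_iff, List.forall_mem_cons, Nat.blt_eq] at h ih
    rw [W_cons]; exact cmul (cz_spec (sim_gen i) (h1 i h.1)) (ih h.2)

/-- products of selected codes -/
noncomputable def imgF (m : ℕ → ℕ) (n k : ℕ) : ℕ :=
  Nat.rec 0 (fun j ih => force ih fun r => Bool.rec r (mulc r (m j)) (tb n j)) k

theorem imgF_spec {u : Co0} {a b : ℕ → ℕ} (n k : ℕ)
    (h : ∀ j < k, a j < 512 ∧ b j < 512 ∧ u * ι (a j) * u⁻¹ = ι (b j)) :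
    imgF a n k < 512 ∧ imgF b n k < 512 ∧ u * ι (imgF a n k) * u⁻¹ = ι (imgF b n k) := by
  induction k with
  | zero => exact ⟨Nat.zero_lt_succ _, Nat.zero_lt_succ _, by simp [imgF, ι_zero]⟩
  | succ k ih =>
    have e : ∀ m, imgF m n (k + 1) = Bool.rec (imgF m n k) (mulc (imgF m n k) (m k)) (tb n k) :=
      fun m => force_eq (imgF m n k) fun r => @Bool.rec (fun _ => ℕ) r (mulc r (m k)) (tb n k)
    obtain ⟨h1, h2, h3⟩ := ih fun j hj => h j (by omega)
    obtain ⟨h4, h5, h6⟩ := h k (by omega)
    rw [e, e]
    cases tb n k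
    · exact ⟨h1, h2, h3⟩
    · exact ⟨mulc_lt h1 h4, mulc_lt h2 h5, by
        rw [← ι_mul _ h4, ← ι_mul _ h5, ← h3, ← h6]; group⟩

/-- the action on codes -/
noncomputable def ac (ms : List ℕ) (n : ℕ) : ℕ := imgF (nth 256 ms) n 9

/-- conjugators for the basis -/
noncomputable def μ (k : ℕ) : List ℕ := nth [] [[8], [0, 2, 6, 8], [1, 5, 1, 8], [7, 6, 0, 6, 1, 8],
  [1, 3, 6, 8], [5, 8], [5, 7, 8], [1, 8]] k

theorem μ_spec {k : ℕ} (hk : k < 8) : W (μ k) * z0 * (W (μ k))⁻¹ = nι (2 ^ k) :=
  (vt_spec (sim_W _) ((by decide +kernel : ∀ k < 8, vt (wF (μ k)) (2 ^ k) = true) k hk)).2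

/-- the test for the action on codes -/
noncomputable def actOK (f : ℕ → ℕ) (ms : List ℕ) : Bool := fxB (sgF 8241104) f &&
  Nat.beq (nth 256 ms 8) 256 && allLT 8 fun k => vt (fun N => f (wF (μ k) N)) (nth 256 ms k)

theorem act_spec {u : Co0} {f : ℕ → ℕ} {ms : List ℕ} (hu : Sim u f) (h : actOK f ms = true) :
    u * z0 = z0 * u ∧ ∀ n < 512, ac ms n < 512 ∧ u * ι n * u⁻¹ = ι (ac ms n) := by
  simp only [actOK, Bool.and_eq_true, allLT_iff, Nat.beq_eq] at h
  have h1 := cz_spec hu h.1.1
  refine ⟨h1, fun n hn => ?_⟩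
  have h2 : ∀ n < 512, imgF (2 ^ ·) n 9 = n := by decide +kernel
  have := imgF_spec (u := u) (a := (2 ^ ·)) (b := nth 256 ms) n 9 fun j hj => by
    rcases Nat.lt_succ_iff_lt_or_eq.1 hj with hj | rfl
    · obtain ⟨h3, h4⟩ := vt_spec (hu.mul (sim_W _)) (h.2 j hj)
      refine ⟨Nat.pow_lt_pow_right (n := 9) (by norm_num) (by omega), (valid_iff.1 h3).1, ?_⟩
      rw [mul_inv_rev, mul_assoc u, mul_assoc u, ← mul_assoc (_ * z0), μ_spec hj, nι, nι,
        ← mul_assoc, ← mul_assoc, neg_comm u, mul_assoc, mul_assoc, mul_right_inj, ← mul_assoc] at h4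
      exact h4
    · rw [h.1.2]
      exact ⟨by norm_num, by norm_num, by
        rw [show ι (2 ^ 8) = z0 from ι_256, ι_256]; exact conj_eq_of_comm h1⟩
  rw [h2 n hn] at this
  exact this.2

/-- the action of the centraliser -/
noncomputable def ρ0 : Spor.Co1 → O q8 := (exists_CT0 pre_QQ coord_QQ).choose

theorem ct0 : CT0 QQ zz π0 ρ0 := (exists_CT0 pre_QQ coord_QQ).choose_spec

/-- the simple reflections on codes -/
def srN (i n : ℕ) : ℕ := if bN n (rt i) then n ^^^ rt i else n

theorem sr_vb {i n : ℕ} (hi : i < 8) (hn : n < 256) : (sr i).1 (vb n) = vb (srN i n) := by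
  rw [sr, srN, refl8 (q_rt hi), polar_vb hn (rt_ok i hi).1]
  split_ifs
  · rw [vb_xor, one_smul]
  · rw [zero_smul, add_zero]

theorem exists_sr {i : ℕ} (hi : i < 8) : ∃ g, g * zz = zz * g ∧ ρ0 g = sr 0 * sr i := by
  have h : ∀ i < 8, ∃ x ∈ [([], [1, 2, 4, 8, 16, 32, 64, 128]),
      ([2, 1, 7, 1, 2, 3, 0, 5, 1, 6, 2], [259, 2, 260, 8, 18, 307, 64, 384]),
      ([0, 2, 3, 1, 2, 4, 7, 3, 5, 0, 2], [16, 304, 260, 264, 307, 274, 64, 128]),
      ([0, 1, 3, 6, 4, 0, 7, 6, 0, 3, 1], [16, 102, 96, 264, 1, 32, 36, 128]),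
      ([0, 6, 5, 2, 0, 2, 6, 0, 7, 3], [11, 258, 4, 8, 282, 315, 64, 155]),
      ([1, 2, 3, 6, 1, 4, 2, 5, 0, 7, 5], [272, 258, 260, 128, 1, 32, 320, 264]),
      ([1, 0, 1, 2, 1, 3, 0, 7, 1], [15, 258, 260, 8, 30, 319, 95, 159]),
      ([0, 5, 6, 2, 5, 3, 1, 7, 1, 6, 7], [16, 258, 64, 8, 1, 288, 260, 128])],
      (∀ n < 256, srN i n < 256 ∧ ac x.2 n % 256 = srN 0 (srN i n)) ∧
        actOK (wF x.1) x.2 = true := by decide +kernel
  have hm : ∀ n < 512, vb (n % 256) = vb n := by decide +kernel
  obtain ⟨x, -, h1, h2⟩ := h i hi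
  obtain ⟨h3, h4⟩ := act_spec (sim_W _) h2
  refine ⟨W x.1, comm_zz.2 h3, O_ext fun v => ?_⟩
  obtain ⟨n, hn, rfl⟩ := vb_surj v
  have h5 : n < 512 := by omega
  rw [O_mul_apply, sr_vb hi hn, sr_vb (by norm_num) (h1 n hn).1, ← (h1 n hn).2, hm _ (h4 n h5).1,
    ← π0_ι h5, ct0.act _ (comm_zz.2 h3) _ (mem_QQ.2 ⟨n, h5, rfl⟩), ← π0_ι (h4 n h5).1,
    ← (h4 n h5).2]
  rfl

theorem surj0 : ∀ e ∈ E q8, ∃ g, g * zz = zz * g ∧ ρ0 g = e := by
  let J : Subgroup (O q8) := E q8 ⊓
    { carrier := {e | ∃ g, g * zz = zz * g ∧ ρ0 g = e}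
      one_mem' := ⟨1, by simp, ct0.ρ_one⟩
      mul_mem' := by
        rintro _ _ ⟨a, ha, rfl⟩ ⟨b, hb, rfl⟩; exact ⟨a * b, cmul ha hb, ct0.ρ_mul ha hb⟩
      inv_mem' := by rintro _ ⟨a, ha, rfl⟩; exact ⟨a⁻¹, cinv ha, ct0.ρ_inv ha⟩ }
  have q0 := q_rt (i := 0) (by norm_num)
  have h1 : ∀ i < 8, sr 0 * sr i ∈ J := fun i hi => ⟨refl_mul_mem q0 (q_rt hi), exists_sr hi⟩
  have si : ∀ i, (sr i)⁻¹ = sr i := fun i => refl_inv _
  have h2 : ∀ i < 8, ∀ e, e ∈ J ∨ sr 0 * e ∈ J → sr i * e ∈ J ∨ sr 0 * (sr i * e) ∈ J := by
    rintro i hi e (h | h)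
    · exact Or.inr (mul_assoc (sr 0) _ _ ▸ mul_mem (h1 i hi) h)
    · have := mul_mem (inv_mem (h1 i hi)) h
      rw [mul_inv_rev, mul_assoc, inv_mul_cancel_left, si] at this
      exact Or.inl this
  intro e he
  have h3 : e ∈ Subgroup.closure {g | ∃ i < 8, g = sr i} := by
    rw [eq_top_of_sr (J := Subgroup.closure {g | ∃ i < 8, g = sr i}) fun i hi =>
      Subgroup.subset_closure ⟨i, hi, rfl⟩]; trivial
  have h4 : e ∈ J ∨ sr 0 * e ∈ J := by
    clear he
    induction h3 using Subgroup.closure_induction_left with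
    | one => exact Or.inl (one_mem _)
    | mul_left x hx y _ ih => obtain ⟨i, hi, rfl⟩ := hx; exact h2 i hi y ih
    | inv_mul_cancel x hx y _ ih => obtain ⟨i, hi, rfl⟩ := hx; rw [si]; exact h2 i hi y ih
  exact (h4.resolve_right fun h => refl_not_mem q0 (((E q8).mul_mem_cancel_right he).1 h.1)).2

theorem sq_of_comm {g : Spor.Co1} (hz : g * zz = zz * g)
    (h : ∀ a ∈ QQ, ∀ n < 16, π0 a = vb n → g * a = a * g) : g * g = 1 := by
  obtain ⟨g, rfl⟩ := QuotientGroup.mk_surjective g
  exact congrArg QuotientGroup.mk (signs_mul_self (mem_signs_of_comm (comm_zz.1 hz) fun n hn =>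
    comm_of_mk (h _ (mem_QQ.2 ⟨n, by omega, rfl⟩) n hn (π0_ι (by omega))) (tr_ι_ne (by omega))))

theorem exists_σ : ∃ g : Spor.Co1, g * zz = zz * g ∧ g * g ≠ 1 ∧
    ∀ b ∈ QQ, ∀ n < 16, π0 b = (sr 0).1 (vb n) → g * b = b * g := by
  have s := (sim_sN (m := 138790) (by decide +kernel)).mul (sim_pN (a := 0x8926facaf0a05ab629283981610dc5)
    (b := 0x8926facaf0a05ab629283981610dc5) (by decide +kernel) (by decide +kernel) (by decide +kernel))
  have hz := comm_zz.2 (cz_spec s (by decide +kernel))
  refine ⟨_, hz, fun h => (mk_eq_one_co1.1 h).elim ((s.mul s).ne Sim.one (by decide +kernel))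
    ((s.mul s).ne sim_neg (by decide +kernel)), fun b hb n hn e => ?_⟩
  have h1 : ∀ n < 16, srN 0 n < 512 ∧ eqB (fun N => sgF 138790 (pmF 0x8926facaf0a05ab629283981610dc5
      (ιF (srN 0 n) N))) (fun N => ιF (srN 0 n) (sgF 138790 (pmF 0x8926facaf0a05ab629283981610dc5 N))) =
        true := by decide +kernel
  have h2 := congrArg (QuotientGroup.mk (s := Subgroup.center Co0))
    ((s.mul (sim_ι _)).ext ((sim_ι _).mul s) (h1 n hn).2)
  rw [sr_vb (by norm_num) (by omega), ← π0_ι (h1 n hn).1] at e
  rcases (coord_QQ.eq_iff (mem_QQ.2 ⟨_, (h1 n hn).1, rfl⟩) hb).1 e.symm with rfl | rfl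
  exacts [h2, (cmul h2.symm hz.symm).symm]

theorem ct_QQ : CT QQ zz π0 ρ0 := ⟨ct0, fun g hg => by
  refine (mem_E_or _ (q_rt (i := 0) (by norm_num))).resolve_right fun h => ?_
  obtain ⟨k, hk, e⟩ := surj0 _ (inv_mem h)
  have h1 := cinv (cmul hk hg)
  have h2 : ρ0 (k * g)⁻¹ = sr 0 := by rw [ct0.ρ_inv (cmul hk hg), ct0.ρ_mul hk hg, e]; simp [sr]
  obtain ⟨s, s1, s2, s3⟩ := exists_σ
  generalize (k * g)⁻¹ = l at h1 h2
  have := sq_of_comm (cconj (cinv h1) s1) fun a ha n hn e => by
    have := s3 _ (pre_QQ.norm l h1 a ha) n hn (by rw [← ct0.act l h1 a ha, h2, e])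
    calc _ = l⁻¹ * (s * (l * a * l⁻¹)) * l := by group
      _ = _ := by rw [this]; group
  exact s2 (by calc _ = l * (l⁻¹ * s * l⁻¹⁻¹ * (l⁻¹ * s * l⁻¹⁻¹)) * l⁻¹ := by group
    _ = 1 := by rw [this]; group), surj0⟩

theorem no_swap {H : Subgroup (Spor.Co1 × Spor.Co1)} : ¬Gr QQ zz π0 ρ0 zz
    (fun x => (sr 0).1 (π0 x)) (fun g => sr 0 * ρ0 g * (sr 0)⁻¹) H := fun g => by
  have c' := ct_QQ.congr (sr 0)
  obtain ⟨s, s1, s2, s3⟩ := exists_σ
  obtain ⟨s', h⟩ := g.ex ct_QQ s1
  have := sq_of_comm (g.mem _ h).2.1 fun a ha n hn e => by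
    obtain ⟨b, hb⟩ := (g.mat ct_QQ c').ex' ct_QQ c' ha
    exact (g.comm_iff ct_QQ c' h hb.1).1 (s3 b hb.2.1 n hn (by
      rw [← e]; exact (g.mem _ hb.1).2.2.2 hb.2.1))
  exact s2 (g.uniq' ct_QQ c' (y := s' * s') (mul_mem h h) (by rw [this]; exact one_mem _))

theorem conj_gen8 : (gen 8 : Spor.Co1) * zz * (gen 8 : Spor.Co1)⁻¹ = ι 1 := by
  have := μ_spec (k := 0) (by norm_num)
  rw [show W (μ 0) = gen 8 from mul_one _] at this
  rw [← mk_nι, ← show _ = nι 1 from this]; rfl

theorem ι_ne {n : ℕ} (h : valid n = true) : (ι n : Spor.Co1) ≠ 1 ∧ (ι n : Spor.Co1) ≠ zz := by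
  obtain ⟨h1, h2, -⟩ := valid_iff.1 h
  rw [← not_or, ← coord_QQ.ker _ (mem_QQ.2 ⟨n, h1, rfl⟩), π0_ι h1]
  exact fun e => h2 (((by decide +kernel : ∀ n < 512, vb n = 0 → n % 256 = 0)) n h1 e)

theorem nw_QQ : NW QQ zz :=
  ⟨gen 8, by rw [conj_gen8]; exact ⟨mem_QQ.2 ⟨1, by norm_num, rfl⟩, (ι_ne (by decide)).2⟩⟩

theorem gen_QQ {w : Spor.Co1} (hw : w * zz * w⁻¹ = ι 1) (J : Subgroup Spor.Co1)
    (hJ : Subgroup.centralizer {zz} ≤ J) (hw' : w ∈ J) : J = ⊤ := by
  let J' := J.comap (QuotientGroup.mk' (Subgroup.center Co0))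
  have h1 : ∀ g, g * z0 = z0 * g → g ∈ J' := fun g hg => hJ (mem_cent.2 (comm_zz.2 hg))
  have h2 : gen 8 ∈ J' := (J.mul_mem_cancel_left (inv_mem hw')).1 (hJ (mem_cent.2 (comm_of_conj_eq (by
    calc _ = w⁻¹ * ((gen 8 : Spor.Co1) * zz * (gen 8 : Spor.Co1)⁻¹) * w := by simp [mul_assoc]
      _ = _ := by rw [conj_gen8, ← hw]; group))))
  let H : Subgroup P24 := (J'.comap permHom).map M24.subtype
  have h3 : ∀ a, inM24 a = true → pN a ∈ J' → Has H a := fun a ha h => by
    obtain ⟨σ, rfl⟩ := exists_code ha
    exact ⟨σ, ⟨σ, by rwa [pN_code] at h, rfl⟩, rfl⟩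
  have h4 : ∀ a ∈ [0x92c607dc869b0aeb0509141b1a9d54, 0x8d12b328a4b058d94de782055bb860,
      0x725b692af3595f5a22076100618622, 0x758ca99c0fa05326349542cb08dc62,
      0x1d9a95304b85e64a191591c2f281d1, 0xa910352ec4c6b23cd647d80d115c3,
      0x2a157cef4939a659d88b246411431, 0x2ae6fa41cdadd0cb1d3251a2400462,
      0x2990d9c80fa3a04530f5b242bb8871], Has H a := by
    rw [List.forall_mem_cons]
    refine ⟨h3 _ (by decide +kernel) ((sim_gen 8).ext (sim_pN (a := 0x92c607dc869b0aeb0509141b1a9d54)
      (b := 0x92c607dc869b0aeb0509141b1a9d54) (by decide +kernel) (by decide +kernel) (by decide +kernel)) (by decide +kernel) ▸ h2),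
      fun a ha => ?_⟩
    have h5 : inM24 a = true ∧ img a 8241104 = 8241104 := by revert a; decide +kernel
    exact h3 a h5.1 (h1 _ (by rw [z0, pN_mul_sN h5.1 (by decide +kernel), h5.2]))
  have h5 : M24 ≤ H := Mathieu.M24_le
    (Has.mem (by convert Mathieu.has_word h4 [1, 0, 2, 0, 3]; rw [Mathieu.code_alpha]; decide +kernel))
    (Has.mem (by
      convert Mathieu.has_word h4 [4, 0, 5, 0, 2, 0, 6]; rw [Mathieu.code_projInv]; decide +kernel))
    (Has.mem (by
      convert Mathieu.has_word h4 [7, 0, 1, 0, 8]; rw [Mathieu.code_cubeTwist]; decide +kernel))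
  have h6 : monoGrp ≤ J' := by
    rintro _ ⟨c, hc, σ, rfl⟩
    obtain ⟨τ, h7, e⟩ := h5 σ.2
    obtain rfl : τ = σ := Subtype.ext e
    exact mul_mem (h1 _ (signs_comm ⟨c, hc, rfl⟩ (sN_mem _))) h7
  have h7 : J' = ⊤ := isCoatom_monoGrp.2 _ (lt_of_le_of_ne h6 fun e => by
    obtain ⟨b, hb⟩ := smul_e8_of_mem_monoGrp (e ▸ h1 _ (W_comm (w := [1]) (by decide +kernel))) none
    have h8 : ∀ b : GolayPt, wF [1] (e8N 23) ≠ e8N (ix b) ∧
      wF [1] (e8N 23) ≠ Nat.sub 0x1084210842108421084210842108420 (e8N (ix b)) := by decide +kernel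
    have h9 := sim_W [1] _ _ (by rw [sqNorm_e8]; norm_num) (rep_e8N none)
    rcases hb with hb | hb <;> rw [hb] at h9
    exacts [(h8 b).1 (h9.unique (rep_e8N b)),
      (h8 b).2 (h9.unique ((rep_e8N b).neg (by rw [sqNorm_e8]; norm_num)))])
  rw [eq_top_iff]
  intro x _
  obtain ⟨x, rfl⟩ := QuotientGroup.mk_surjective x
  exact (h7 ▸ Subgroup.mem_top x : x ∈ J')

end CfsgLib.Co1Rec
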