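import Mathlib
import Cfsg.Agent.Lib.Co1Rec.Inv

/-!
The subgroup `2 ^ 11 : M24` of `Co1` and the centraliser of a dodecad involution.
-/

set_option autoImplicit false
set_option Elab.async false
set_option maxRecDepth 100000

namespace CfsgLib.Co1Rec

open Cfsg Finset CfsgLib.Leech CfsgLib.Golay CfsgLib.MType CfsgLib.LargeExtra
open CfsgLib.Mathieu (P24 app code comp idc inM24 img Has pack)
open CfsgLib.Comput (force force_eq nth)
open CfsgLib.M24E (q2a q2b)
open scoped Pointwise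

/-- the image of the monomial group -/
def NN : Subgroup Spor.Co1 := monoGrp.map (QuotientGroup.mk' (Subgroup.center Co0))

/-- the image of the group of sign changes -/
def AA : Subgroup Spor.Co1 := signs.map (QuotientGroup.mk' (Subgroup.center Co0))

theorem AA_comm {a b : Spor.Co1} (ha : a ∈ AA) (hb : b ∈ AA) : a * b = b * a := by
  obtain ⟨a, ha, rfl⟩ := ha
  obtain ⟨b, hb, rfl⟩ := hb
  exact congrArg QuotientGroup.mk (signs_comm ha hb)

theorem AA_sq {a : Spor.Co1} (ha : a ∈ AA) : a * a = 1 := by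
  obtain ⟨a, ha, rfl⟩ := ha
  exact congrArg QuotientGroup.mk (signs_mul_self ha)

theorem AA_conj {g a : Spor.Co1} (hg : g ∈ NN) (ha : a ∈ AA) : g * a * g⁻¹ ∈ AA := by
  obtain ⟨_, ⟨c, hc, σ, rfl⟩, rfl⟩ := hg
  obtain ⟨a, ha, rfl⟩ := ha
  refine ⟨_, mul_mem (mul_mem ⟨c, hc, rfl⟩ (permAut_conj_mem_signs σ ha)) (inv_mem ⟨c, hc, rfl⟩), ?_⟩
  simp [mul_assoc]

theorem zz_AA : zz ∈ AA := ⟨_, sN_mem _, rfl⟩

theorem cc_AA : cc ∈ AA := ⟨_, sN_mem _, rfl⟩

theorem cc_ne : cc ≠ 1 := fun h => (mk_eq_one_co1.1 h).elim (sim_c0.ne Sim.one (by decide +kernel))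
  (sim_c0.ne sim_neg (by decide +kernel))

theorem uu_ne : uu ≠ 1 := fun h => (mk_eq_one_co1.1 h).elim (sim_u0.ne Sim.one (by decide +kernel))
  (sim_u0.ne sim_neg (by decide +kernel))

theorem uu_sq : uu * uu = 1 := mk_eq_one_co1.2 (Or.inr u0_sq)

theorem dod_sq {c : Finset GolayPt} (hc : IsCW c) (h : c.card = 12) (v : leechLattice) :
    dotInt v.1 (sgnAut c hc • v).1 % 16 = 8 * (v.1 none % 2) := by
  have h1 : dotInt v.1 (sgnAut c hc • v).1 = sqNorm v.1 - 2 * ∑ i ∈ c, v.1 i ^ 2 := by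
    rw [← sum_ite_mem_eq, mul_sum, sqNorm, ← sum_sub_distrib]
    refine sum_congr rfl fun i _ => ?_
    rw [sgnAut_smul_apply]; split_ifs <;> ring
  have h2 := sqNorm_mod v.2
  have h3 : ∀ x : ℤ, x ^ 2 % 8 = if x % 2 = 1 then 1 else if 2 ≤ x % 4 then 4 else 0 := fun x => by
    have : x % 8 = 0 ∨ x % 8 = 1 ∨ x % 8 = 2 ∨ x % 8 = 3 ∨ x % 8 = 4 ∨ x % 8 = 5 ∨ x % 8 = 6 ∨
      x % 8 = 7 := by omega
    rw [sq, Int.mul_emod]
    rcases this with h | h | h | h | h | h | h | h <;> rw [h] <;> split_ifs <;> omega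
  have h4 := sum_int_mod c 8 fun i => v.1 i ^ 2
  rcases even_or_odd v.2 with he | ho
  · have := hc.even_inter (isCW_cw v.2)
    rw [sum_congr (f := fun i => v.1 i ^ 2 % 8) rfl (g := fun i => if i ∈ Leech.cw v.1 then 4 else 0)
      fun i _ => by simp only [h3, he i, Leech.mem_cw]; rfl, sum_ite_mem, sum_const, nsmul_eq_mul] at h4
    have := he none
    omega
  · rw [sum_congr (f := fun i => v.1 i ^ 2 % 8) rfl (g := fun _ => 1)
      fun i _ => by simp only [h3, ho i]; rfl, sum_const, h] at h4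
    have := ho none
    simp only [nsmul_eq_mul] at h4
    omega

theorem cent_cc {g : Spor.Co1} (h : g * cc = cc * g) : g ∈ NN := by
  obtain ⟨g, rfl⟩ := QuotientGroup.mk_surjective g
  have h1 : ∀ v : leechLattice, (g⁻¹ • v).1 none % 2 = v.1 none % 2 := fun v => by
    have k := dod_sq (isCW_ofMask (m := 340831) (by decide +kernel))
      (by rw [card_ofMask (by norm_num)]; decide +kernel)
    rw [← sN_eq (by decide +kernel), ← c0] at k
    have e1 := k v
    have e2 := k (g⁻¹ • v)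
    rw [← dotInt_smul g, smul_inv_smul, ← mul_smul] at e2
    rcases mk_eq_mk_co1.1 (show ((c0 * g : Co0) : Spor.Co1) = (g * c0 : Co0) from h.symm) with e | e <;>
      rw [e, mul_smul] at e2
    · rw [smul_inv_smul] at e2; omega
    · rw [mul_smul, negAut_smul, smul_neg, smul_neg, smul_inv_smul, AddSubgroup.coe_neg,
        dotInt_neg_right] at e2
      omega
  have h2 : ∀ B, kap B (g • e8 none + e8 none) = 0 := fun B => by
    induction B with
    | nil => rfl
    | cons b B ih =>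
      have e1 := eight_mul_beta (g • e8 none + e8 none) (toL b)
      rw [AddSubgroup.coe_add, Leech.dotInt_add_left, ← dotInt_smul g⁻¹, inv_smul_smul, dotInt_comm,
        dotInt_e8, dotInt_comm, dotInt_e8] at e1
      have := h1 (toL b)
      rw [kap, ih, decide_eq_false (by omega)]; rfl
  obtain ⟨σ, c, hc, rfl⟩ := monomial_of_cong (cong_iff_add.2 (cong_zero_of_kap (h2 _)))
  exact ⟨_, mul_mem (permAut_mem_monoGrp σ) (sgnAut_mem_monoGrp c hc), rfl⟩

/-- `t` is centralised by an element of order `p` -/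
def HasP {G : Type*} [Group G] (p : ℕ) (t : G) : Prop := ∃ e, e ≠ 1 ∧ e ^ p = 1 ∧ e * t = t * e

theorem HasP.conj {G : Type*} [Group G] {p : ℕ} {s t : G} (h : HasP p s) (e : IsConj s t) :
    HasP p t := by
  obtain ⟨k, rfl⟩ := isConj_iff.1 e
  obtain ⟨e, h1, h2, h3⟩ := h
  exact ⟨k * e * k⁻¹, by simpa using h1, by rw [conj_pow, h2]; simp, by
    rw [conj_mul, conj_mul, h3]⟩

theorem HasP.dvd {G : Type*} [Group G] {p : ℕ} (hp : p.Prime) {t : G} (h : HasP p t)
    {H : Subgroup G} (hH : ∀ e, e * t = t * e → e ∈ H) : p ∣ Nat.card H := by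
  obtain ⟨e, h1, h2, h3⟩ := h
  have := Fact.mk hp
  exact orderOf_eq_prime h2 h1 ▸ H.orderOf_dvd_natCard (hH e h3)

theorem hasP_of {e x : Co0} {f g : ℕ → ℕ} (he : Sim e f) (hx : Sim x g) {p : ℕ}
    (h : (eqB (iter f p) (fun N => N) && eqB (fun N => f (g N)) (fun N => g (f N)) &&
      !eqB f (fun N => N) && !eqB f (Nat.sub 0x1084210842108421084210842108420)) = true) :
    HasP p (x : Spor.Co1) := by
  simp only [Bool.and_eq_true, Bool.not_eq_true'] at h
  exact ⟨e, fun e => (mk_eq_one_co1.1 e).elim (he.ne Sim.one h.1.2) (he.ne sim_neg h.2),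
    congrArg QuotientGroup.mk ((he.pow p).ext Sim.one h.1.1.1),
    congrArg QuotientGroup.mk ((he.mul hx).ext (hx.mul he) h.1.1.2)⟩

theorem has_cc : HasP 11 cc := hasP_of (sim_pN (a := 0xbd6717b56939461b52507314831040)
  (b := 0xbaecaaa68899e468960478dc268580) (by decide +kernel) (by decide +kernel) (by decide +kernel))
  sim_c0 (by decide +kernel)

theorem has_uu : HasP 13 uu := hasP_of (sim_mG (K := 0x4018421108221044218c2008402080)
  (D := 0x2107c0008000ff7def8020fffe000000f8400007e1003e007c000040007c000007feffe107bfff7fff0001ef7fdefffe00007ef8400000210fbdff840000400084000007e0001ef83fff8000fffdef7fdefffe00007ffffdf083fe080010001ef7fe100020000000081f07bfff7ffefffdf07fe1000200007f07c000001effbde07c000040007c000007ffffe0f83fff7ffefffdef8021008200007f08401fffdf0041ff84000040007c000007ffffdef7bfff80010001f08820fffe00007f083c000021003dff7bffffbfff7c000007ef7bfffffdf003dff7c000fc00084000007ef83fffffdeffbe0083ffffc3ff7c0000000f83fff001effc1ff7bffffc0007c0000001083fffffdeffbdff7c00003fdf84000000107bfffffe0ffbdff83fdffc0007c000007ffffe1083fff7800fffe107fe0fffe00007ffffe0f7c00080010ffdf07fdf000200007ffffdf084000803efffdf0801efffe00007ffffdf07bfff8000fffe0f801f100200007ef7bfffffe0ffc1ff7c00003fff7c400007ffffdef7bc007ffefffe0f7fe0fffe000000f7c000001f003dff83c0003fff7c0)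
  (by decide +kernel)) sim_u0 (by decide +kernel)

theorem not_has_zz {p : ℕ} (hp : p.Prime) (h : ¬p ∣ 89181388800) : ¬HasP p zz := fun e =>
  h (ct_QQ.card_cent ▸ e.dvd hp fun _ => mem_cent.2)

theorem not_has_cc : ¬HasP 13 cc := fun e => by
  have := (e.dvd (by norm_num) fun _ => cent_cc).trans (Subgroup.card_map_dvd _ _)
  rw [card_monoGrp] at this
  omega

/-- the elements of `AA` -/
noncomputable def eA (k : ℕ) : Spor.Co1 := sN (Golay.cw k)

theorem eA_mem (k : ℕ) : eA k ∈ AA := ⟨_, sN_mem _, rfl⟩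

theorem eA_mul {j k : ℕ} (hj : j < 4096) (hk : k < 4096) : eA j * eA k = eA (j ^^^ k) := by
  rw [eA, eA, eA, cw_xor hj hk, ← sN_mul (isCode_cw hj) (isCode_cw hk)]; rfl

theorem eA_eq_one {k : ℕ} (hk : k < 4096) : eA k = 1 ↔ k = 0 ∨ k = 4095 := by
  have e0 : sN (Golay.cw 0) = 1 := sN_zero
  have e1 : sN (Golay.cw 4095) = negAut := by rw [← sN_full]; congr 1
  have k1 : ∀ j < 4096, sN (Golay.cw k) = sN (Golay.cw j) → k = j := fun j hj e => by
    rw [← cw_mod hk, (sN_inj (isCode_cw hk) (isCode_cw hj) (congrArg (· * permAut 1) e)).1, cw_mod hj]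
  rw [eA, mk_eq_one_co1, ← e0, ← e1]
  exact or_congr ⟨k1 0 (by norm_num), fun h => h ▸ rfl⟩ ⟨k1 _ (by norm_num), fun h => h ▸ rfl⟩

theorem eA_inj : Set.InjOn eA (range 2048) := fun j hj k hk e => by
  simp only [coe_range, Set.mem_Iio] at hj hk
  have h1 : j ^^^ k < 2048 := Nat.xor_lt_two_pow (n := 11) hj hk
  have := (eA_eq_one (k := j ^^^ k) (by omega)).1 (by
    rw [← eA_mul (by omega) (by omega), e, AA_sq (eA_mem k)])
  exact Nat.eq_of_xor_eq_zero (by omega)

theorem exists_eA {a : Spor.Co1} (ha : a ∈ AA) : ∃ k < 2048, eA k = a := by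
  obtain ⟨_, ⟨c, hc, rfl⟩, rfl⟩ := ha
  obtain ⟨k, hk, -, e⟩ := exists_sN hc
  rw [e]
  by_cases h : k < 2048
  · exact ⟨k, h, rfl⟩
  · refine ⟨k ^^^ 4095, (by decide +kernel : ∀ k < 4096, ¬k < 2048 → k ^^^ 4095 < 2048) k hk h, ?_⟩
    rw [← eA_mul hk (by norm_num), (eA_eq_one (k := 4095) (by norm_num)).2 (Or.inr rfl), mul_one]; rfl

theorem ncard_AA (P : Spor.Co1 → Prop) [DecidablePred P] :
    {b | b ∈ AA ∧ P b}.ncard = ((range 2048).filter fun k => P (eA k)).card := by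
  rw [← Set.ncard_coe_finset, ← (eA_inj.mono (coe_subset.2 (filter_subset _ _))).ncard_image]
  congr 1
  ext b
  simp only [coe_filter, mem_range, Set.mem_image, Set.mem_ofPred_eq]
  exact ⟨fun ⟨h1, h2⟩ => let ⟨k, hk, e⟩ := exists_eA h1; ⟨k, ⟨hk, e ▸ h2⟩, e⟩,
    fun ⟨k, hk, e⟩ => e ▸ ⟨eA_mem k, hk.2⟩⟩

theorem card_AA : Nat.card AA = 2048 := by
  simpa [← Nat.card_coe_set_eq] using ncard_AA fun _ => True

/-- the table of octads and their complements -/
def OCT : ℕ := 0xfcfaa99cee247881f6f0ca00824882846ac6c0a0e1818824ac00900f41214112db88e888a0c050038428214199060053e81124110ac00503848221140035999fbe48e42190aa090088814481c0053039d884821290000955228111810c63035fc360009084148427a0030a658111174b0009c306211b21d75059053f172d7e77ed82e241cc90009018888122a0030595b88248410009330981441811a056053f60a5090028218247c005c03611182d17900006a5411d147b0393035f4b1777e7a0c0a00c4211811e690900531241472705300503818742770035966f1d1bb77d884211170305599314211b1d06ff35ff881711bd65363f5f2747d77b53ff9ffe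

theorem oct_iff {k : ℕ} (hk : k < 2048) : IsConj zz (eA k) ↔ tb OCT k = true := by
  have h1 := of_allLT (n := 2048) (f := fun k => tb OCT k == (Nat.beq (pc (Golay.cw k)) 8 ||
    Nat.beq (pc (Golay.cw k)) 16)) (by decide +kernel) hk
  have h2 : k < 4096 := by omega
  rw [beq_iff_eq.1 h1, Bool.or_eq_true, Nat.beq_eq, Nat.beq_eq, ← card_ofMask (cw_lt h2), eA,
    sN_eq (isCode_cw h2)]
  refine ⟨fun h => ?_, conj_oct _⟩
  have := (conj_zz h).1
  rw [tr_sgn] at this
  omega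

theorem AA_cases {b : Spor.Co1} (hb : b ∈ AA) :
    b = 1 ∨ (∃ g ∈ NN, g * zz * g⁻¹ = b) ∨ ∃ g ∈ NN, g * cc * g⁻¹ = b := by
  have k : ∀ {c d hc hd} {g : P24}, g ∈ M24 → g • c = d →
      ∃ g ∈ NN, g * (sgnAut c hc : Spor.Co1) * g⁻¹ = sgnAut d hd := by
    rintro c _ hc hd g hg rfl
    exact ⟨_, ⟨_, permAut_mem_monoGrp ⟨g, hg⟩, rfl⟩, mul_inv_eq_of_eq_mul
      (congrArg QuotientGroup.mk (permAut_mul_sgnAut ⟨g, hg⟩ c hc))⟩
  have k8 : ∀ {c} hc, c.card = 8 → ∃ g ∈ NN, g * zz * g⁻¹ = sgnAut c hc := fun {c} hc h => by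
    have h0 := isCW_ofMask (m := 8241104) (by decide +kernel)
    obtain ⟨g, hg, e⟩ := M24E.octad_trans c ⟨hc, h⟩
    obtain ⟨g', hg', e'⟩ := M24E.octad_trans _ ⟨h0.compl, by
      rw [card_compl, card_pt, card_ofMask (by norm_num)]; decide +kernel⟩
    rw [zz, z0_eq, ← mk_compl]
    exact k (mul_mem hg (inv_mem hg')) (by rw [← e', mul_smul, inv_smul_smul, e])
  obtain ⟨_, ⟨c, hc, rfl⟩, rfl⟩ := hb
  rcases hc.card_eq with h | h | h | h | h
  · exact Or.inl (by simp only [card_eq_zero.1 h, sgnAut_empty]; rfl)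
  · exact Or.inr (Or.inl (k8 hc h))
  · obtain ⟨g, hg, e⟩ := M24E.dodecad_trans c ⟨hc, h⟩
    rw [cc, c0, sN_eq (by decide +kernel)]
    exact Or.inr (Or.inr (k hg e))
  · exact Or.inr (Or.inl ((k8 hc.compl (by rw [card_compl, card_pt, h])).imp
      fun _ e => ⟨e.1, e.2.trans (mk_compl hc)⟩))
  · exact Or.inl (mk_eq_one_co1.2 (Or.inr (by simp only [hc.eq_univ (by omega), negAut])))

theorem ncard_oct {j : ℕ} (hj : j < 2048) : {x | x ∈ AA ∧ IsConj zz x ∧ IsConj zz (x * eA j)}.ncard =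
    cntLT 2048 fun k => tb OCT k && tb OCT (k ^^^ j) := by
  classical
  rw [ncard_AA, cntLT_eq_card]
  refine congrArg card (filter_congr fun k hk => ?_)
  rw [mem_range] at hk
  rw [eA_mul (by omega) (by omega), oct_iff (Nat.xor_lt_two_pow (n := 11) hk hj), oct_iff hk,
    Bool.and_eq_true]

theorem ncard_dod {g : Spor.Co1} (hg : g ∈ NN) :
    {x | x ∈ AA ∧ IsConj zz x ∧ IsConj zz (x * (g * cc * g⁻¹))}.ncard = 264 := by
  have h1 := (ncard_oct (j := 863) (by norm_num)).trans (by decide +kernel : _ = 264)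
  have k : ∀ x, IsConj zz (g * x * g⁻¹) ↔ IsConj zz x := fun x =>
    ⟨(·.trans (isConj_iff.2 ⟨g⁻¹, by group⟩)), (·.trans (isConj_iff.2 ⟨g, rfl⟩))⟩
  rw [← h1, show eA 863 = cc by rw [eA, cc, c0]; congr 2]
  symm
  exact Set.ncard_congr (fun x _ => g * x * g⁻¹) (fun x h => ⟨AA_conj hg h.1, (k x).2 h.2.1, by
    rw [conj_mul]; exact (k _).2 h.2.2⟩) (fun _ _ _ _ e => by simpa using e) fun y h =>
      ⟨g⁻¹ * y * g⁻¹⁻¹, ⟨AA_conj (inv_mem hg) h.1, (k _).1 (by simpa [mul_assoc] using h.2.1),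
        (k _).1 (by simpa [mul_assoc] using h.2.2)⟩, by group⟩

theorem no_B {B : Subgroup Spor.Co1} (hB : B ≤ AA) (hc : cc ∈ B) (hz : ∀ b ∈ B, ¬IsConj zz b) {K : ℕ}
    (hK : ∀ x ∈ AA, IsConj zz x → {b | b ∈ B ∧ IsConj zz (x * b)}.ncard = K) : False := by
  classical
  let T := (range 2048).filter fun k => eA k ∈ B
  let S := (range 2048).filter fun k => tb OCT k = true
  have e0 : eA 0 = 1 := (eA_eq_one (by norm_num)).2 (Or.inl rfl)
  have h0 : 0 ∈ T := mem_filter.2 ⟨by simp, e0 ▸ one_mem _⟩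
  have h1 : Nat.card B = T.card := by
    rw [← ncard_AA (· ∈ B)]
    refine congrArg Set.ncard (?_ : (B : Set Spor.Co1) = _)
    ext; exact ⟨fun h => ⟨hB h, h⟩, fun h => h.2⟩
  have h2 : ∀ k ∈ S, (T.filter fun j => tb OCT (k ^^^ j) = true).card = K := fun k hk => by
    obtain ⟨k1, k2⟩ := mem_filter.1 hk
    rw [mem_range] at k1
    rw [← hK _ (eA_mem k) ((oct_iff k1).2 k2), filter_filter, show {b | b ∈ B ∧ IsConj zz (eA k * b)} =
      {b | b ∈ AA ∧ b ∈ B ∧ IsConj zz (eA k * b)} from Set.ext fun _ => ⟨fun h => ⟨hB h.1, h⟩,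
        fun h => h.2⟩, ncard_AA]
    refine congrArg card (filter_congr fun j hj => ?_)
    rw [mem_range] at hj
    rw [eA_mul (by omega) (by omega), oct_iff (Nat.xor_lt_two_pow (n := 11) k1 hj)]
  have h3 : ∀ j ∈ T, (S.filter fun k => tb OCT (k ^^^ j) = true).card =
      264 + if j = 0 then 495 else 0 := fun j hj => by
    obtain ⟨j1, j2⟩ := mem_filter.1 hj
    rw [mem_range] at j1
    have := ncard_oct j1
    simp only [cntLT_eq_card, Bool.and_eq_true] at this
    rw [filter_filter, ← this]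
    split_ifs with h
    · rw [h, ncard_oct (by norm_num)]; decide +kernel
    rcases AA_cases (eA_mem j) with e | ⟨g, -, e⟩ | ⟨g, hg, e⟩
    · have := (eA_eq_one (by omega)).1 e; omega
    · exact absurd (isConj_iff.2 ⟨g, e⟩) (hz _ j2)
    · exact e ▸ ncard_dod hg
  have h4 : S.card = 759 := (cntLT_eq_card _ _).symm.trans (by decide +kernel)
  have h5 := sum_card_bipartiteAbove_eq_sum_card_bipartiteBelow (s := S) (t := T)
    fun k j => tb OCT (k ^^^ j) = true
  simp only [bipartiteAbove, bipartiteBelow] at h5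
  rw [sum_congr rfl h2, sum_congr rfl h3, sum_add_distrib, sum_ite_eq', if_pos h0, sum_const,
    sum_const, h4, ← h1, smul_eq_mul, smul_eq_mul] at h5
  have h6 := Subgroup.card_dvd_of_le hB
  have h7 : Nat.card B ≠ 2048 := fun h =>
    hz _ (Subgroup.eq_of_le_of_card_ge hB (by rw [h, card_AA]) ▸ zz_AA) (IsConj.refl _)
  have h8 : Nat.card B ≠ 1 := fun h => cc_ne (by rwa [Subgroup.card_eq_one.1 h] at hc)
  rw [card_AA, show 2048 = 2 ^ 11 from rfl, Nat.dvd_prime_pow Nat.prime_two] at h6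
  obtain ⟨i, hi, e⟩ := h6
  rw [e] at h5 h7 h8
  interval_cases i <;> omega

end CfsgLib.Co1Rec
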